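import Cfsg.Agent.Lib.ShortPres.Main

/-!
Presentations with seven relations of alternating and symmetric groups.
-/

set_option autoImplicit false
set_option linter.unusedSectionVars false
set_option linter.style.haveILetI false

namespace Cfsg.Agent.ShortPres

open Equiv Cfsg.Agent.BoundedPres

universe u

/-- Seven relations on three generators, the last two of which generate. -/
def Pres7 (T : Type u) [Group T] : Prop :=
  ∃ (R : Finset (FreeGroup (Fin 3))) (e : PresentedGroup (↑R : Set (FreeGroup (Fin 3))) ≃* T),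
    R.card ≤ 7 ∧ Subgroup.closure ({e (PresentedGroup.of 1), e (PresentedGroup.of 2)} : Set T) = ⊤

theorem Pres7.congr {T : Type u} [Group T] {T' : Type*} [Group T'] (h : Pres7 T) (g : T ≃* T') :
    Pres7 T' := by
  obtain ⟨R, e, hR, hgen⟩ := h
  refine ⟨R, e.trans g, hR, ?_⟩
  have := congrArg (Subgroup.map g.toMonoidHom) hgen
  rw [MonoidHom.map_closure, Subgroup.map_top_of_surjective _ g.surjective, Set.image_insert_eq,
    Set.image_singleton] at this
  exact this

theorem Pres7.of_data {T : Type u} [Group T] (R : Finset (FreeGroup (Fin 3))) (hR : R.card ≤ 7)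
    (v : Fin 3 → T) (hv : ∀ x ∈ R, FreeGroup.lift v x = 1)
    (hgen : Subgroup.closure ({v 1, v 2} : Set T) = ⊤)
    (huniv : ∀ (G : Type) [Group G] (w : Fin 3 → G), (∀ x ∈ R, FreeGroup.lift w x = 1) →
      ∃ f : T →* G, ∀ i, f (v i) = w i) : Pres7 T := by
  have hall : Subgroup.closure (Set.range v) = ⊤ := top_le_iff.1 (hgen.ge.trans (Subgroup.closure_mono (by
    rintro x (rfl | rfl) <;> exact ⟨_, rfl⟩)))
  obtain ⟨e, he⟩ := exists_equiv R v hv hall fun G _ w hw _ => huniv G w hw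
  exact ⟨R, e, hR, by rw [he, he]; exact hgen⟩

variable {L p : ℕ} [NeZero L] [Fact p.Prime]

theorem cyc_mem_closure {δ : ℤˣ} {K : Subgroup (Perm (Pts L))} (hX : cyc (pa L) (pb L) (pt L 0) ∈ K)
    (hC : c0 L δ ∈ K) : Cs (pa L) (pb L) (seg L L) ≤ K := by
  rw [Cs, Subgroup.closure_le]
  rintro _ ⟨x, hx, rfl⟩
  obtain ⟨i, -, rfl⟩ := mem_seg.1 (Finset.mem_coe.1 hx)
  have h := mul_mem (mul_mem (pow_mem hC i) hX) (inv_mem (pow_mem hC i))
  rw [c0_pow_cyc, Nat.zero_add] at h
  have := pw_mem (eps L δ ^ i) h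
  rwa [pw_pw, Int.units_mul_self, pw_one] at this

theorem pres7_even (hp2 : p ≠ 2) (hpL : p ≤ L) (hL : L + 1 ≤ 2 * p) :
    Pres7 ↥(Cs (pa L) (pb L) (seg L L)) := by
  have hp : p.Prime := Fact.out
  obtain ⟨D⟩ := exists_rels7 (L := L) (p := p) hp2 hpL (δ := 1) le_rfl hp.pos hL (by omega) (pow_one 1)
  have hfull := Cs_eq_alternating (good_seg (L := L) L) seg_full
  have hc : c0 L 1 ∈ Cs (pa L) (pb L) (seg L L) := by
    rw [hfull, Perm.mem_alternatingGroup, sign_c0]
  let v : Fin 3 → Cs (pa L) (pb L) (seg L L) :=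
    ![⟨_, Cs_mono (seg_mono hpL) D.A0.2⟩, ⟨_, cyc_mem (pt_mem (NeZero.pos L))⟩, ⟨_, hc⟩]
  have hsub : (Cs (pa L) (pb L) (seg L L)).subtype.comp (FreeGroup.lift v) =
      FreeGroup.lift ![(D.A0 : Perm (Pts L)), cyc (pa L) (pb L) (pt L 0), c0 L 1] :=
    FreeGroup.ext_hom _ _ fun i => by fin_cases i <;> simp [v]
  refine Pres7.of_data D.rels D.card v (fun x hx => Subtype.ext ?_) ?_ ?_
  · rw [OneMemClass.coe_one, ← D.sat x hx, ← hsub]; rfl
  · rw [eq_top_iff]
    rintro ⟨g, hg⟩ -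
    obtain ⟨y, hy, hyg⟩ := cyc_mem_closure (δ := 1)
      (K := (Subgroup.closure {v 1, v 2}).map (Cs (pa L) (pb L) (seg L L)).subtype)
      ⟨v 1, Subgroup.subset_closure (Or.inl rfl), rfl⟩ ⟨v 2, Subgroup.subset_closure (Or.inr rfl), rfl⟩ hg
    obtain rfl : y = ⟨g, hg⟩ := Subtype.ext hyg
    exact hy
  · intro G _ w hw
    obtain ⟨ψ, hA, hX, -, hC⟩ := D.univ G w hw
    refine ⟨ψ, fun i => ?_⟩
    fin_cases i
    · exact hA _ rfl
    · exact hX _ rfl
    · exact (hC _ (pow_one _).symm).trans (pow_one _)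

theorem pres7_all (hp2 : p ≠ 2) (hpL : p ≤ L) (hL : L + 2 ≤ 2 * p) : Pres7 (Perm (Pts L)) := by
  classical
  have hp : p.Prime := Fact.out
  obtain ⟨D⟩ := exists_rels7 (L := L) (p := p) hp2 hpL (δ := -1) (k := 2) (by norm_num) hp.two_le hL
    (by omega) (by decide)
  have hfull := Cs_eq_alternating (good_seg (L := L) L) seg_full
  set s : Perm (Pts L) := c0 L (-1) with hs
  have hsg : Perm.sign s = -1 := sign_c0
  have hmem : ∀ σ : Perm (Pts L), Perm.sign σ = 1 → σ ∈ Cs (pa L) (pb L) (seg L L) := fun σ h => by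
    rw [hfull, Perm.mem_alternatingGroup]; exact h
  have hsn : ∀ σ : Perm (Pts L), ¬ Perm.sign σ = 1 → Perm.sign (σ * s⁻¹) = 1 := fun σ h => by
    rw [map_mul, map_inv, hsg, (Int.units_eq_one_or _).resolve_left h]; rfl
  refine Pres7.of_data D.rels D.card ![(D.A0 : Perm (Pts L)), cyc (pa L) (pb L) (pt L 0), s] D.sat ?_ ?_
  · rw [eq_top_iff]
    intro σ _
    have hle := cyc_mem_closure (δ := -1) (L := L)
      (K := Subgroup.closure {cyc (pa L) (pb L) (pt L 0), s}) (Subgroup.subset_closure (Or.inl rfl))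
      (Subgroup.subset_closure (Or.inr rfl))
    show σ ∈ Subgroup.closure {cyc (pa L) (pb L) (pt L 0), s}
    by_cases h : Perm.sign σ = 1
    · exact hle (hmem σ h)
    · have := mul_mem (hle (hmem _ (hsn σ h))) (Subgroup.subset_closure (Or.inr rfl) :
        s ∈ Subgroup.closure {cyc (pa L) (pb L) (pt L 0), s})
      rwa [inv_mul_cancel_right] at this
  intro G _ w hw
  obtain ⟨ψ, hA, hX, hcompat, hC2⟩ := D.univ G w hw
  set C := w 2 with hCdef
  let cs : Cs (pa L) (pb L) (seg L L) → Cs (pa L) (pb L) (seg L L) := fun x =>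
    ⟨s ^ 1 * x * (s ^ 1)⁻¹, c0_pow_mem_all 1 x.2⟩
  have hc : ∀ x, C * ψ x = ψ (cs x) * C := fun x => by
    have := hcompat 1 x (cs x) rfl
    rw [pow_one] at this
    rw [← this]; group
  have hs2m : s ^ 2 ∈ Cs (pa L) (pb L) (seg L L) := hmem _ (by rw [map_pow, hsg]; rfl)
  have hC2' : ψ ⟨s ^ 2, hs2m⟩ = C ^ 2 := hC2 _ rfl
  let ev : Perm (Pts L) → G := fun σ =>
    if h : Perm.sign σ = 1 then ψ ⟨σ, hmem σ h⟩ else ψ ⟨σ * s⁻¹, hmem _ (hsn σ h)⟩ * C
  have hev1 : ∀ x : Cs (pa L) (pb L) (seg L L), ev (x : Perm (Pts L)) = ψ x := fun x =>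
    dif_pos (sign_of_mem (good_seg L) x.2)
  have hev2 : ∀ x : Cs (pa L) (pb L) (seg L L), ev ((x : Perm (Pts L)) * s) = ψ x * C := fun x => by
    have h : ¬ Perm.sign ((x : Perm (Pts L)) * s) = 1 := by
      rw [map_mul, sign_of_mem (good_seg L) x.2, hsg]; decide
    simp only [ev, dif_neg h]
    congr 2
    exact Subtype.ext (mul_inv_cancel_right (x : Perm (Pts L)) s)
  have split : ∀ σ : Perm (Pts L), ∃ x : Cs (pa L) (pb L) (seg L L), σ = x ∨ σ = (x : Perm (Pts L)) * s := by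
    intro σ
    by_cases h : Perm.sign σ = 1
    · exact ⟨⟨σ, hmem σ h⟩, Or.inl rfl⟩
    · exact ⟨⟨σ * s⁻¹, hmem _ (hsn σ h)⟩, Or.inr (inv_mul_cancel_right σ s).symm⟩
  have hmul : ∀ σ τ, ev (σ * τ) = ev σ * ev τ := by
    intro σ τ
    obtain ⟨x, rfl | rfl⟩ := split σ <;> obtain ⟨y, rfl | rfl⟩ := split τ
    · rw [hev1, hev1, ← Subgroup.coe_mul, hev1, map_mul]
    · rw [hev1, hev2, ← mul_assoc, ← Subgroup.coe_mul, hev2, map_mul, mul_assoc]
    · rw [hev2, hev1, show (x : Perm (Pts L)) * s * y = ((x * cs y : _) : Perm (Pts L)) * s by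
        show _ = (x : Perm (Pts L)) * (s ^ 1 * y * (s ^ 1)⁻¹) * s
        rw [pow_one]; group, hev2, map_mul, mul_assoc, mul_assoc, hc]
    · rw [hev2, hev2, show (x : Perm (Pts L)) * s * (y * s) =
          ((x * cs y * ⟨s ^ 2, hs2m⟩ : Cs (pa L) (pb L) (seg L L)) : Perm (Pts L)) by
        show _ = (x : Perm (Pts L)) * (s ^ 1 * y * (s ^ 1)⁻¹) * s ^ 2
        rw [pow_one, pow_two]; group, hev1, map_mul, map_mul, hC2',
        show ψ x * C * (ψ y * C) = ψ x * (C * ψ y) * C by group, hc, pow_two]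
      group
  refine ⟨MonoidHom.mk' ev hmul, fun i => ?_⟩
  fin_cases i
  · exact (hev1 ⟨_, Cs_mono (seg_mono hpL) D.A0.2⟩).trans (hA _ rfl)
  · exact (hev1 ⟨_, cyc_mem (pt_mem (NeZero.pos L))⟩).trans (hX _ rfl)
  · show ev s = C
    have := hev2 1
    rwa [OneMemClass.coe_one, one_mul, map_one, one_mul] at this

/-- Symmetric and alternating groups of degree at least five. -/
theorem pres7_fin (n : ℕ) (hn : 5 ≤ n) :
    Pres7 (Perm (Fin n)) ∧ Pres7 ↥(alternatingGroup (Fin n)) := by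
  obtain ⟨L, rfl⟩ : ∃ L, n = L + 2 := ⟨n - 2, by omega⟩
  obtain ⟨q, hq, h1, h2⟩ := Nat.exists_prime_lt_and_le_two_mul ((L + 1) / 2) (by omega)
  haveI : Fact q.Prime := ⟨hq⟩
  haveI : NeZero L := ⟨by omega⟩
  have hodd : q % 2 = 1 := (hq.eq_two_or_odd).resolve_left (by omega)
  have hqL : q ≤ L := by omega
  have hq2 : L + 2 ≤ 2 * q := by omega
  have hcard : Fintype.card (Pts L) = L + 2 := by
    rw [Fintype.card_sum, Fintype.card_fin, ZMod.card, Nat.add_comm]
  let e : Pts L ≃ Fin (L + 2) := Fintype.equivFinOfCardEq hcard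
  refine ⟨(pres7_all (by omega) hqL hq2).congr e.permCongrHom, ?_⟩
  refine ((pres7_even (by omega) hqL (by omega)).congr
    (MulEquiv.subgroupCongr (Cs_eq_alternating (good_seg (L := L) L) seg_full))).congr ?_
  exact (e.permCongrHom.subgroupMap (alternatingGroup (Pts L))).trans (MulEquiv.subgroupCongr (by
    ext σ
    simp only [Subgroup.mem_map, Perm.mem_alternatingGroup]
    constructor
    · rintro ⟨τ, hτ, rfl⟩
      show Perm.sign (e.permCongr τ) = 1
      rw [Perm.sign_permCongr, hτ]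
    · intro hσ
      refine ⟨e.permCongrHom.symm σ, ?_, MulEquiv.apply_symm_apply _ σ⟩
      show Perm.sign (e.symm.permCongr σ) = 1
      rw [Perm.sign_permCongr, hσ]))

/-- Two generators. -/
theorem Pres7.two {T : Type u} [Group T] (h : Pres7 T) :
    ∃ S : Finset (FreeGroup (Fin 2)), S.card ≤ 7 ∧
      Nonempty (PresentedGroup (↑S : Set (FreeGroup (Fin 2))) ≃* T) := by
  classical
  obtain ⟨R, e, hR, hgen⟩ := h
  set v : Fin 3 → T := fun i => e (PresentedGroup.of i) with hv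
  let g : Fin 2 → T := ![v 1, v 2]
  have hg : Subgroup.closure (Set.range g) = ⊤ := by
    rw [show Set.range g = {v 1, v 2} by
      rw [Matrix.range_cons, Matrix.range_cons, Matrix.range_empty, Set.union_empty, Set.singleton_union]]
    exact hgen
  obtain ⟨u, hu⟩ := exists_word g (t := v 0) (hg ▸ Subgroup.mem_top _)
  let pw3 : Fin 3 → FreeGroup (Fin 2) := ![u, FreeGroup.of 0, FreeGroup.of 1]
  have hP : (FreeGroup.lift g).comp (FreeGroup.lift pw3) = e.toMonoidHom.comp (PresentedGroup.mk _) :=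
    FreeGroup.ext_hom _ _ fun i => by
      rw [MonoidHom.comp_apply, FreeGroup.lift_apply_of]
      show _ = v i
      fin_cases i
      · exact hu
      · exact FreeGroup.lift_apply_of
      · exact FreeGroup.lift_apply_of
  refine ⟨R.image (FreeGroup.lift pw3), Finset.card_image_le.trans hR, ?_⟩
  obtain ⟨e', -⟩ := exists_equiv (R.image (FreeGroup.lift pw3)) g (fun x hx => by
    obtain ⟨y, hy, rfl⟩ := Finset.mem_image.1 hx
    refine (DFunLike.congr_fun hP y).trans ?_
    rw [MonoidHom.comp_apply, PresentedGroup.one_of_mem (Finset.mem_coe.2 hy), map_one]) hg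
    (fun G _ w hw _ => by
      have hw' : ∀ x ∈ (↑R : Set (FreeGroup (Fin 3))), FreeGroup.lift (FreeGroup.lift w ∘ pw3) x = 1 := by
        intro x hx
        rw [show FreeGroup.lift (FreeGroup.lift w ∘ pw3) = (FreeGroup.lift w).comp (FreeGroup.lift pw3) from
          FreeGroup.ext_hom _ _ fun i => by simp]
        exact hw _ (Finset.mem_image_of_mem _ (Finset.mem_coe.1 hx))
      refine ⟨(PresentedGroup.toGroup hw').comp e.symm.toMonoidHom, fun i => ?_⟩
      fin_cases i
      · show PresentedGroup.toGroup hw' (e.symm (e _)) = _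
        rw [e.symm_apply_apply, PresentedGroup.toGroup.of]
        exact FreeGroup.lift_apply_of
      · show PresentedGroup.toGroup hw' (e.symm (e _)) = _
        rw [e.symm_apply_apply, PresentedGroup.toGroup.of]
        exact FreeGroup.lift_apply_of)
  exact ⟨e'⟩

/-- Any two generators. -/
theorem Pres7.pair {T : Type u} [Group T] (h : Pres7 T) (a b : T)
    (hab : Subgroup.closure ({a, b} : Set T) = ⊤) :
    ∃ S : Finset (FreeGroup (Fin 2)), S.card ≤ 9 ∧
      ∃ e : PresentedGroup (↑S : Set (FreeGroup (Fin 2))) ≃* T,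
        e (PresentedGroup.of 0) = a ∧ e (PresentedGroup.of 1) = b := by
  obtain ⟨R, e, hR, -⟩ := h
  obtain ⟨S, hS, f, hf⟩ := (of_presentation R hR e).exists_pres ![a, b] (by
    rwa [Matrix.range_cons, Matrix.range_cons, Matrix.range_empty, Set.union_empty, Set.singleton_union])
  exact ⟨S, by simpa using hS, f, hf 0, hf 1⟩

end Cfsg.Agent.ShortPres
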