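import Cfsg.Agent.Lib.ShortPres.Points

/-!
An alternating group on a prime number of points and two more, with four relations on two generators.
-/

set_option autoImplicit false
set_option linter.unusedSectionVars false
set_option linter.style.haveILetI false

namespace Cfsg.Agent.ShortPres

open Equiv Cfsg.Agent.BoundedPres

variable {L p : ℕ} [NeZero L] [Fact p.Prime]

/-- The three-cycle at a residue. -/
def cz (L p : ℕ) [NeZero L] [Fact p.Prime] (i : ZMod p) : Cs (pa L) (pb L) (seg L p) :=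
  ⟨cyc (pa L) (pb L) (pt L i.val), cyc_mem (pt_mem (ZMod.val_lt i))⟩

theorem cz_natCast {i : ℕ} (hi : i < p) :
    ((cz L p (i : ZMod p) : Cs (pa L) (pb L) (seg L p)) : Perm (Pts L)) = cyc (pa L) (pb L) (pt L i) := by
  show cyc _ _ (pt L (i : ZMod p).val) = _
  rw [ZMod.val_natCast, Nat.mod_eq_of_lt hi]

theorem cz_gen : Subgroup.closure (Set.range (cz L p)) = ⊤ := by
  rw [eq_top_iff]
  rintro ⟨g, hg⟩ -
  have : Cs (pa L) (pb L) (seg L p) ≤
      (Subgroup.closure (Set.range (cz L p))).map (Cs (pa L) (pb L) (seg L p)).subtype := by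
    conv_lhs => rw [Cs]
    rw [Subgroup.closure_le]
    rintro _ ⟨x, hx, rfl⟩
    obtain ⟨i, hi, rfl⟩ := mem_seg.1 (Finset.mem_coe.1 hx)
    exact ⟨cz L p (i : ZMod p), Subgroup.subset_closure ⟨_, rfl⟩, cz_natCast hi⟩
  obtain ⟨y, hy, hyg⟩ := this hg
  obtain rfl : y = ⟨g, hg⟩ := Subtype.ext hyg
  exact hy

set_option maxHeartbeats 1000000 in
/-- The four relations. -/
theorem exists_base (hp2 : p ≠ 2) (hpL : p ≤ L) :
    ∃ (A0 : Cs (pa L) (pb L) (seg L p)) (r' : ℕ) (uB : FreeGroup (ZMod p)),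
      A0 ^ p = 1 ∧
      (∀ (k : ℕ) (i : ZMod p), A0 ^ k * cz L p i * (A0 ^ k)⁻¹ = cz L p ((k : ZMod p) + i)) ∧
      (∀ (k : ℕ) (x : Fin 2), ∃ y, ((A0 : Perm (Pts L)) ^ k) (Sum.inl x) = Sum.inl y) ∧
      (∀ k i, i < p → ((A0 : Perm (Pts L)) ^ k) (pt L i) = pt L ((i + k) % p)) ∧
      FreeGroup.lift (cz L p) uB * A0 * (FreeGroup.lift (cz L p) uB)⁻¹ = A0 ^ r' ∧
      FreeGroup.lift (cz L p) uB * cz L p 0 * (FreeGroup.lift (cz L p) uB)⁻¹ = (cz L p 0)⁻¹ ∧
      ∀ (G : Type) [Group G] (A X : G), A ^ p = X ^ 3 →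
        (let Y : ZMod p → G := fun i => A ^ i.val * X * (A ^ i.val)⁻¹
         FreeGroup.lift Y uB * A * (FreeGroup.lift Y uB)⁻¹ = A ^ r' →
         FreeGroup.lift Y uB * X * (FreeGroup.lift Y uB)⁻¹ = X⁻¹ →
         (X * (A * X * A⁻¹)) ^ 2 = 1 →
         ∃ f : Cs (pa L) (pb L) (seg L p) →* G, f A0 = A ∧ f (cz L p 0) = X ∧ ∀ i, f (cz L p i) = Y i) := by
  classical
  have hp : p.Prime := Fact.out
  have hS : Good (pa L) (pb L) (seg L p) := good_seg p
  let e : ZMod p ≃ {x // x ∈ seg L p} := Equiv.ofBijective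
    (fun i => ⟨pt L i.val, pt_mem (ZMod.val_lt i)⟩) ⟨fun i j h => by
      have h1 := pt_inj (lt_of_lt_of_le (ZMod.val_lt i) hpL) (lt_of_lt_of_le (ZMod.val_lt j) hpL)
        (congrArg Subtype.val h)
      exact ZMod.val_injective p h1, fun ⟨x, hx⟩ => by
      obtain ⟨i, hi, rfl⟩ := mem_seg.1 hx
      exact ⟨(i : ZMod p), Subtype.ext (by simp only [ZMod.val_natCast, Nat.mod_eq_of_lt hi])⟩⟩
  have he : ∀ i, ((e i : {x // x ∈ seg L p}) : Pts L) = pt L i.val := fun i => rfl
  obtain ⟨r, hr⟩ := IsCyclic.exists_generator (α := (ZMod p)ˣ)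
  let τ : Perm {x // x ∈ seg L p} := e.permCongr (Equiv.addLeft 1)
  let μ : Perm {x // x ∈ seg L p} := e.permCongr (Units.mulLeft r)
  let A₀ : Cs (pa L) (pb L) (seg L p) := kapC hS subset_rfl τ
  let B₀ : Cs (pa L) (pb L) (seg L p) := kapC hS subset_rfl μ
  let c : ZMod p → Cs (pa L) (pb L) (seg L p) := cz L p
  have hcv : ∀ i, (c i : Perm (Pts L)) = cyc (pa L) (pb L) (e i) := fun i => rfl
  have hτpow : ∀ (m : ℕ) (i : ZMod p), (τ ^ m) (e i) = e ((m : ZMod p) + i) := by
    intro m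
    induction m with
    | zero => intro i; simp
    | succ m ih =>
      intro i
      rw [pow_succ', Perm.mul_apply, ih]
      simp only [τ, Equiv.permCongr_apply, Equiv.symm_apply_apply, Equiv.coe_addLeft]
      push_cast
      ring_nf
  have hτp : τ ^ p = 1 := Equiv.ext fun x => by
    obtain ⟨i, rfl⟩ := e.surjective x
    rw [hτpow, ZMod.natCast_self, zero_add]; rfl
  have hsτ : Perm.sign τ = 1 := by
    have h := congrArg Perm.sign hτp
    rw [map_pow, map_one] at h
    rcases Int.units_eq_one_or (Perm.sign τ) with h1 | h1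
    · exact h1
    · rw [h1, (hp.odd_of_ne_two hp2).neg_one_pow] at h
      exact absurd h (by decide)
  have hμ : ∀ i : ZMod p, μ (e i) = e ((r : ZMod p) * i) := fun i => by
    simp [μ, Equiv.permCongr_apply]
  have hr1 : (r : ZMod p) ≠ 1 := by
    intro h
    have h2 : (-1 : ZMod p) ≠ 0 := by simp
    obtain ⟨n, hn⟩ := mem_powers_iff_mem_zpowers.2 (hr (Units.mk0 (-1) h2))
    have := congrArg Units.val hn
    simp only [Units.val_pow_eq_pow_val, h, one_pow, Units.val_mk0] at this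
    haveI hf2 : Fact (2 < p) := ⟨by have := hp.two_le; omega⟩
    exact ZMod.neg_one_ne_one this.symm
  have hεμ : Perm.sign μ = -1 := by
    have hcyc : (Units.mulLeft r : Perm (ZMod p)).IsCycle := by
      refine ⟨1, by simp [hr1], fun y hy => ?_⟩
      have hy0 : y ≠ 0 := fun h => hy (by simp [h])
      obtain ⟨n, hn⟩ := mem_powers_iff_mem_zpowers.2 (hr (Units.mk0 y hy0))
      refine ⟨(n : ℤ), ?_⟩
      rw [zpow_natCast]
      have hpow : ∀ m : ℕ, ((Units.mulLeft r : Perm (ZMod p)) ^ m) 1 = ((r ^ m : (ZMod p)ˣ) : ZMod p) := by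
        intro m
        induction m with
        | zero => simp
        | succ m ih => rw [pow_succ', Perm.mul_apply, ih, Units.mulLeft_apply, pow_succ' r, Units.val_mul]
      rw [hpow]
      exact congrArg Units.val hn
    have hsupp : (Units.mulLeft r : Perm (ZMod p)).support = Finset.univ.erase 0 := by
      ext y
      simp only [Perm.mem_support, Units.mulLeft_apply, Finset.mem_erase, Finset.mem_univ, and_true]
      refine ⟨fun h hy => h (by rw [hy, mul_zero]), fun hy h => hr1 ?_⟩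
      exact mul_right_cancel₀ hy (h.trans (one_mul y).symm)
    show Perm.sign (e.permCongr (Units.mulLeft r)) = -1
    rw [Perm.sign_permCongr, hcyc.sign, hsupp, Finset.card_erase_of_mem (Finset.mem_univ _),
      Finset.card_univ, ZMod.card, (Nat.Prime.even_sub_one hp hp2).neg_one_pow]
  have hτc : ∀ (m : ℕ) (i : ZMod p), A₀ ^ m * c i * (A₀ ^ m)⁻¹ = c ((m : ZMod p) + i) := by
    intro m i
    have h := kap_conj hS (τ ^ m) (hS.ne_a (e i).2) (hS.ne_b (e i).2)
    rw [map_pow Perm.sign, hsτ, one_pow, if_pos rfl, kap_coe, hτpow] at h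
    refine Subtype.ext ?_
    rw [Subgroup.coe_mul, Subgroup.coe_mul, Subgroup.coe_inv, hcv, hcv, SubmonoidClass.coe_pow,
      kapC_val, ← map_pow]
    exact h
  have hμc : ∀ i : ZMod p, B₀ * c i * B₀⁻¹ = (c ((r : ZMod p) * i))⁻¹ := by
    intro i
    have h := kap_conj hS μ (hS.ne_a (e i).2) (hS.ne_b (e i).2)
    rw [kap_coe, hμ, hεμ, if_neg (show ¬((-1 : ℤˣ) = 1) by decide)] at h
    refine Subtype.ext ?_
    rw [Subgroup.coe_mul, Subgroup.coe_mul, Subgroup.coe_inv, Subgroup.coe_inv, hcv, hcv, kapC_val]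
    exact h
  have hAp : A₀ ^ p = 1 := by rw [← map_pow, hτp, map_one]
  -- an even exponent
  obtain ⟨r', hr'r, hr'e, hr'2⟩ : ∃ r' : ℕ, (r' : ZMod p) = r ∧ Even r' ∧ 2 ≤ r' := by
    have hv0 : (r : ZMod p).val ≠ 0 := by
      rw [Ne, ZMod.val_eq_zero]; exact r.ne_zero
    have hv1 : (r : ZMod p).val ≠ 1 := fun h => hr1 (ZMod.val_injective p (by rw [h, ZMod.val_one]))
    rcases Nat.even_or_odd (r : ZMod p).val with h | h
    · exact ⟨_, ZMod.natCast_zmod_val _, h, by omega⟩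
    · exact ⟨(r : ZMod p).val + p, by simp, Odd.add_odd h (hp.odd_of_ne_two hp2), by omega⟩
  have hBA : B₀ * A₀ * B₀⁻¹ = A₀ ^ r' := by
    rw [← map_inv, ← map_mul, ← map_mul, ← map_pow]
    refine congrArg _ (Equiv.ext fun x => ?_)
    obtain ⟨i, rfl⟩ := e.surjective x
    have h1 : μ⁻¹ (e i) = e ((r⁻¹ : (ZMod p)ˣ) * i) :=
      Perm.inv_eq_iff_eq.2 (by rw [hμ, Units.mul_inv_cancel_left])
    have h2 : τ (e ((r⁻¹ : (ZMod p)ˣ) * i)) = e (1 + (r⁻¹ : (ZMod p)ˣ) * i) := by
      have h := hτpow 1 (((r⁻¹ : (ZMod p)ˣ) : ZMod p) * i)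
      rwa [pow_one, Nat.cast_one] at h
    rw [Perm.mul_apply, Perm.mul_apply, h1, h2, hμ, hτpow, hr'r, mul_add, mul_one, Units.mul_inv_cancel_left]
  obtain ⟨uB, huB⟩ := exists_word c (t := B₀) (cz_gen (L := L) (p := p) ▸ Subgroup.mem_top _)
  have hAval : ∀ k : ℕ, (A₀ : Perm (Pts L)) ^ k = kap hS (τ ^ k) := fun k => by
    rw [map_pow]; rfl
  have hab : ∀ (k : ℕ) (x : Fin 2), ((A₀ : Perm (Pts L)) ^ k) (Sum.inl x) = Sum.inl x := by
    intro k x
    rw [hAval, kap_apply, map_pow Perm.sign, hsτ, one_pow, map_one, mul_one,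
      Perm.ofSubtype_apply_of_not_mem _ (by simp [seg, pt])]
  have hpts : ∀ k i, i < p → ((A₀ : Perm (Pts L)) ^ k) (pt L i) = pt L ((i + k) % p) := by
    intro k i hi
    have e1 : pt L i = ((e (i : ZMod p) : {x // x ∈ seg L p}) : Pts L) := by
      rw [he, ZMod.val_natCast, Nat.mod_eq_of_lt hi]
    rw [hAval, e1, kap_coe, hτpow, he, ← Nat.cast_add, ZMod.val_natCast, add_comm k i]
  refine ⟨A₀, r', uB, hAp, hτc, fun k x => ⟨x, hab k x⟩, hpts, ?_, ?_, ?_⟩
  · rw [huB, hBA]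
  · rw [huB, hμc, mul_zero]
  intro G _ A X l1
  dsimp only
  set Y : ZMod p → G := fun i => A ^ i.val * X * (A ^ i.val)⁻¹ with hY
  set B := FreeGroup.lift Y uB with hB
  intro l2 l3 l5
  -- the central element is trivial
  set Z := A ^ p with hZ
  have hZA : Commute Z A := (Commute.refl A).pow_left p
  have hZX : Commute Z X := l1 ▸ (Commute.refl X).pow_left 3
  have hZB : Commute Z B := by
    have hle : Subgroup.closure (Set.range Y) ≤ Subgroup.centralizer {Z} := by
      rw [Subgroup.closure_le]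
      rintro _ ⟨i, rfl⟩
      exact Subgroup.mem_centralizer_singleton_iff.2
        (((hZA.pow_right _).mul_right hZX).mul_right (hZA.pow_right _).inv_right).symm.eq
    exact (Subgroup.mem_centralizer_singleton_iff.1 (hle (lift_mem_closure Y uB))).symm
  have hZ1 : Z = Z ^ r' := by
    have h := conj_pow (i := p) (a := B) (b := A)
    rw [l2, ← pow_mul, mul_comm, pow_mul, ← hZ] at h
    rw [h, ← hZB.eq, mul_inv_cancel_right]
  have hZ2 : Z ^ 2 = 1 := by
    have h := conj_pow (i := 3) (a := B) (b := X)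
    rw [l3, inv_pow, ← l1, ← hZB.eq, mul_inv_cancel_right] at h
    rw [pow_two]
    nth_rw 1 [← h]
    rw [inv_mul_cancel]
  have hZone : Z = 1 := by
    obtain ⟨m, hm⟩ := hr'e
    rw [hZ1, hm, ← two_mul, pow_mul, hZ2, one_pow]
  have hAp' : A ^ p = 1 := hZone
  have hX3 : X ^ 3 = 1 := l1.symm.trans hZone
  -- Carmichael
  have hAmod : ∀ m, A ^ m = A ^ (m % p) := fun m => by
    conv_lhs => rw [← Nat.mod_add_div m p, pow_add, pow_mul, hAp', one_pow, mul_one]
  have hAY : ∀ (m : ℕ) (i : ZMod p), A ^ m * Y i * (A ^ m)⁻¹ = Y ((m : ZMod p) + i) := by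
    intro m i
    have : A ^ ((m : ZMod p) + i).val = A ^ m * A ^ i.val := by
      rw [ZMod.val_add, ZMod.val_natCast, ← hAmod, pow_add, ← hAmod]
    simp only [hY, this]; group
  have hY0 : Y 0 = X := by simp [hY]
  have hBY : ∀ i : ZMod p, B * Y i * B⁻¹ = (Y ((r : ZMod p) * i))⁻¹ := by
    intro i
    have e1 : B * A ^ i.val * B⁻¹ = A ^ ((r : ZMod p) * i).val := by
      rw [← conj_pow, l2, ← pow_mul, hAmod (r' * i.val), ← ZMod.val_natCast, Nat.cast_mul, hr'r,
        ZMod.natCast_zmod_val]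
    have e2 : B * Y i * B⁻¹ = A ^ ((r : ZMod p) * i).val * (B * X * B⁻¹) *
        (A ^ ((r : ZMod p) * i).val)⁻¹ := by
      rw [← e1]; simp only [hY]; group
    rw [e2, l3]
    simp only [hY]
    group
  have h01 : (Y 0 * Y 1) ^ 2 = 1 := by
    have : Y 1 = A * X * A⁻¹ := by simp [hY, ZMod.val_one]
    rw [hY0, this]; exact l5
  have h0r : ∀ n : ℕ, (Y 0 * Y (((r ^ n : (ZMod p)ˣ) : ZMod p))) ^ 2 = 1 := by
    intro n
    induction n with
    | zero => simpa using h01
    | succ n ih =>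
      refine pair_pm (B := B) (-1) ?_ ?_ ih
      · rw [hBY, mul_zero, if_neg (show ¬((-1 : ℤˣ) = 1) by decide)]
      · rw [hBY, if_neg (show ¬((-1 : ℤˣ) = 1) by decide), pow_succ', Units.val_mul]
  have h0d : ∀ d : ZMod p, d ≠ 0 → (Y 0 * Y d) ^ 2 = 1 := by
    intro d hd
    obtain ⟨n, hn⟩ := mem_powers_iff_mem_zpowers.2 (hr (Units.mk0 d hd))
    have := h0r n
    rw [show r ^ n = Units.mk0 d hd from hn] at this
    exact this
  have hrel : ∀ i j : ZMod p, i ≠ j → (Y i * Y j) ^ 2 = 1 := by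
    intro i j hij
    have := h0d (j - i) (sub_ne_zero.2 hij.symm)
    have e1 := hAY i.val 0
    have e2 := hAY i.val (j - i)
    rw [ZMod.natCast_zmod_val, add_zero] at e1
    rw [ZMod.natCast_zmod_val, add_sub_cancel] at e2
    rw [← e1, ← e2, show A ^ i.val * Y 0 * (A ^ i.val)⁻¹ * (A ^ i.val * Y (j - i) * (A ^ i.val)⁻¹) =
      A ^ i.val * (Y 0 * Y (j - i)) * (A ^ i.val)⁻¹ by group, conj_pow, this, mul_one, mul_inv_cancel]
  have hcube : ∀ i, Y i ^ 3 = 1 := fun i => by
    simp only [hY]; rw [conj_pow, hX3, mul_one, mul_inv_cancel]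
  let Zf : Pts L → G := fun x => if h : x ∈ seg L p then Y (e.symm ⟨x, h⟩) else 1
  obtain ⟨f, hf⟩ := car_hom hS Zf ⟨fun i hi => by simp only [Zf, dif_pos hi, hcube],
    fun i hi j hj hij => by
      simp only [Zf, dif_pos hi, dif_pos hj]
      exact hrel _ _ fun h => hij (congrArg Subtype.val (e.symm.injective h))⟩
  have hfc : ∀ i, f (c i) = Y i := fun i => by
    rw [show c i = ⟨cyc (pa L) (pb L) (e i), cyc_mem (e i).2⟩ from rfl, hf _ (e i).2]
    simp [Zf]
  have hfl : ∀ x, f (FreeGroup.lift c x) = FreeGroup.lift Y x := fun x =>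
    DFunLike.congr_fun (f := f.comp (FreeGroup.lift c)) (g := FreeGroup.lift Y)
      (FreeGroup.ext_hom _ _ fun i => by simp [hfc]) x
  -- the translation is the image of the translation
  set u := (f A₀)⁻¹ * A with hu
  have hfA : ∀ i, f A₀ * Y i * (f A₀)⁻¹ = A * Y i * A⁻¹ := fun i => by
    have h1 := hτc 1 i
    rw [pow_one] at h1
    rw [← hfc, ← map_inv, ← map_mul, ← map_mul, h1, hfc]
    have h2 := hAY 1 i
    rw [pow_one] at h2
    rw [hfc, h2]
  have hu_cent : ∀ x, Commute u (f x) := by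
    intro x
    have hle : Subgroup.closure (Set.range c) ≤ (Subgroup.centralizer {u}).comap f := by
      rw [Subgroup.closure_le]
      rintro _ ⟨i, rfl⟩
      refine Subgroup.mem_centralizer_singleton_iff.2 ?_
      rw [hfc, hu]
      have h := congrArg (fun g => (f A₀)⁻¹ * g * A) (hfA i)
      simp only [mul_assoc, inv_mul_cancel, inv_mul_cancel_left, mul_one] at h
      simpa [mul_assoc] using h
    exact (Subgroup.mem_centralizer_singleton_iff.1 (hle (cz_gen (L := L) (p := p) ▸ Subgroup.mem_top x))).symm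
  have hAu : A = f A₀ * u := by rw [hu, mul_inv_cancel_left]
  have hup : u ^ p = 1 := by
    have h := hAp'
    rw [hAu, ((hu_cent A₀).symm).mul_pow, ← map_pow, hAp, map_one, one_mul] at h
    exact h
  have hur : u = u ^ r' := by
    have h := l2
    rw [hB, ← hfl uB, huB] at h
    rw [hAu, ((hu_cent A₀).symm).mul_pow, ← map_pow, ← hBA, map_mul, map_mul, map_inv] at h
    have h2 : f B₀ * (f A₀ * u) * (f B₀)⁻¹ = f B₀ * f A₀ * (f B₀)⁻¹ * u := by
      rw [show f B₀ * (f A₀ * u) * (f B₀)⁻¹ = f B₀ * f A₀ * (u * (f B₀)⁻¹) by group,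
        ((hu_cent B₀).inv_right).eq, mul_assoc]
      group
    rw [h2] at h
    exact mul_left_cancel h
  have hu1 : u = 1 := by
    have h1 : u ^ (r' - 1) = 1 := by
      have : u * u ^ (r' - 1) = u * 1 := by
        rw [mul_one, ← pow_succ', Nat.sub_add_cancel (by omega), ← hur]
      exact mul_left_cancel this
    have hco : Nat.Coprime (r' - 1) p := by
      refine (hp.coprime_iff_not_dvd.2 fun h => ?_).symm
      have := (ZMod.natCast_eq_zero_iff (r' - 1) p).2 h
      rw [Nat.cast_sub (by omega), hr'r, Nat.cast_one, sub_eq_zero] at this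
      exact hr1 this
    have := pow_gcd_eq_one.2 ⟨h1, hup⟩
    rwa [hco.gcd_eq_one, pow_one] at this
  exact ⟨f, by rw [hAu, hu1, mul_one], by rw [hfc, hY0], hfc⟩

end Cfsg.Agent.ShortPres
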