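import Cfsg.Agent.Lib.ShortPres.Base

/-!
Seven relations on three generators: a prime interval, its shift, and one relation for the shift.
-/

set_option autoImplicit false
set_option linter.unusedSectionVars false
set_option linter.style.haveILetI false

namespace Cfsg.Agent.ShortPres

open Equiv Cfsg.Agent.BoundedPres

variable {L p : ℕ} [NeZero L] [Fact p.Prime]

theorem sgn_cases {G : Type*} [Group G] (e : ℤˣ) (x : G) :
    pw e x = x ∨ pw e x = x⁻¹ := by
  rcases Int.units_eq_one_or e with rfl | rfl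
  · exact Or.inl (pw_one x)
  · exact Or.inr (pw_neg x)

theorem pw_pair' {G : Type*} [Group G] (e : ℤˣ) {x y : G} (h : (x * y) ^ 2 = 1) :
    (pw e x * pw e y) ^ 2 = 1 := by
  rcases Int.units_eq_one_or e with rfl | rfl
  · rwa [pw_one, pw_one]
  · rw [pw_neg, pw_neg]; exact pair_inv h

theorem pw_pow {G : Type*} [Group G] (e : ℤˣ) (x : G) (n : ℕ) : pw e x ^ n = pw e (x ^ n) := by
  rcases Int.units_eq_one_or e with rfl | rfl
  · rw [pw_one, pw_one]
  · rw [pw_neg, pw_neg, inv_pow]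

theorem pw_mem {G : Type*} [Group G] {H : Subgroup G} (e : ℤˣ) {x : G} (h : x ∈ H) : pw e x ∈ H := by
  rcases sgn_cases e x with h' | h' <;> rw [h']
  · exact h
  · exact inv_mem h

/-- What the seven relations give. -/
structure Rels7 (L p : ℕ) [NeZero L] [Fact p.Prime] (δ : ℤˣ) (k : ℕ) where
  /-- the translation -/
  A0 : Cs (pa L) (pb L) (seg L p)
  /-- the relators -/
  rels : Finset (FreeGroup (Fin 3))
  card : rels.card ≤ 7
  sat : ∀ x ∈ rels, FreeGroup.lift ![(A0 : Perm (Pts L)), cyc (pa L) (pb L) (pt L 0), c0 L δ] x = 1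
  univ : ∀ (G : Type) [Group G] (w : Fin 3 → G), (∀ x ∈ rels, FreeGroup.lift w x = 1) →
    ∃ ψ : Cs (pa L) (pb L) (seg L L) →* G,
      (∀ x : Cs (pa L) (pb L) (seg L L), (x : Perm (Pts L)) = A0 → ψ x = w 0) ∧
      (∀ x : Cs (pa L) (pb L) (seg L L),
        (x : Perm (Pts L)) = cyc (pa L) (pb L) (pt L 0) → ψ x = w 1) ∧
      (∀ (t : ℕ) (x y : Cs (pa L) (pb L) (seg L L)),
        (y : Perm (Pts L)) = c0 L δ ^ t * x * (c0 L δ ^ t)⁻¹ → w 2 ^ t * ψ x * (w 2 ^ t)⁻¹ = ψ y) ∧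
      ∀ x : Cs (pa L) (pb L) (seg L L), (x : Perm (Pts L)) = c0 L δ ^ k → ψ x = w 2 ^ k

set_option maxHeartbeats 1000000 in
/-- The seven relations. -/
theorem exists_rels7 (hp2 : p ≠ 2) (hpL : p ≤ L) {δ : ℤˣ} {k : ℕ} (hk1 : 1 ≤ k) (hk : k ≤ p)
    (hLk : L + k ≤ 2 * p) (hL2 : L < 2 * p) (hδk : δ ^ k = 1) : Nonempty (Rels7 L p δ k) := by
  classical
  have hp : p.Prime := Fact.out
  have hpp : 0 < p := hp.pos
  obtain ⟨A0, r', uB, hAp, hτc, hAab, hApts, hBA, hBX, huniv⟩ := exists_base (L := L) (p := p) hp2 hpL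
  set ε := eps L δ with hε
  set j := L - p with hj
  have hjL : j + p = L := by omega
  -- the overlap
  have hD : seg L (p - 1) ⊆ seg L p := seg_mono (Nat.sub_le p 1)
  have hGD : Good (pa L) (pb L) (seg L (p - 1)) := good_seg _
  let ψ1 : Cs (pa L) (pb L) (seg L (p - 1)) →* Cs (pa L) (pb L) (seg L p) :=
    Subgroup.inclusion (Cs_mono hD)
  let ψ2 : Cs (pa L) (pb L) (seg L (p - 1)) →* Cs (pa L) (pb L) (seg L p) :=
    ((MulAut.conj (c0 L δ)).toMonoidHom.comp (Cs (pa L) (pb L) (seg L (p - 1))).subtype).codRestrict _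
      fun x => by
        have := c0_mem_seg (δ := δ) x.2
        rwa [Nat.sub_add_cancel hpp] at this
  obtain ⟨o1, o2, ho⟩ := exists_two_gen hGD
  -- the last relation
  set σ2 : Perm (Pts L) := c0 L δ ^ j * (A0 : Perm (Pts L)) ^ k * (c0 L δ ^ j)⁻¹ with hσ2
  set σ1 : Perm (Pts L) := c0 L δ ^ k * σ2⁻¹ with hσ1
  have hinl : ∀ x : Fin 2, ∃ y, σ1 (Sum.inl x) = (Sum.inl y : Pts L) := by
    have key : ∀ g : Perm (Pts L), (∀ x : Fin 2, ∃ y, g (Sum.inl x) = Sum.inl y) →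
        ∀ x : Fin 2, ∃ y, g⁻¹ (Sum.inl x) = Sum.inl y := by
      intro g hg
      choose f hf using hg
      have hinj : Function.Injective f := fun x y h => by
        have : g (Sum.inl x) = g (Sum.inl y) := by rw [hf, hf, h]
        exact Sum.inl_injective (g.injective this)
      intro x
      obtain ⟨y, hy⟩ := (Finite.injective_iff_surjective.1 hinj) x
      exact ⟨y, Perm.inv_eq_iff_eq.2 (by rw [hf, hy])⟩
    have hc : ∀ (m : ℕ) (x : Fin 2), ∃ y, (c0 L δ ^ m) (Sum.inl x) = Sum.inl y := by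
      intro m
      induction m with
      | zero => exact fun x => ⟨x, rfl⟩
      | succ m ih =>
        intro x
        obtain ⟨y, hy⟩ := ih x
        obtain ⟨z, hz⟩ := c0_inl (L := L) (δ := δ) y
        exact ⟨z, by rw [pow_succ', Perm.mul_apply, hy, hz]⟩
    intro x
    obtain ⟨x1, h1⟩ := key _ (hc j) x
    obtain ⟨x2, h2⟩ := key _ (hAab k) x1
    obtain ⟨x3, h3⟩ := hc j x2
    obtain ⟨x4, h4⟩ := hc k x3
    refine ⟨x4, ?_⟩
    rw [hσ1, hσ2, show c0 L δ ^ k * (c0 L δ ^ j * (A0 : Perm (Pts L)) ^ k * (c0 L δ ^ j)⁻¹)⁻¹ =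
      c0 L δ ^ k * (c0 L δ ^ j * ((A0 : Perm (Pts L)) ^ k)⁻¹ * (c0 L δ ^ j)⁻¹) by group]
    simp only [Perm.mul_apply, h1, h2, h3, h4]
  have hfix : ∀ i, i < L → pt L i ∉ seg L p → σ1 (pt L i) = pt L i := by
    intro i hi hni
    have hip : p ≤ i := not_lt.1 fun h => hni (pt_mem h)
    have h1 : σ2 (pt L (i - k)) = pt L i := by
      have e1 : (c0 L δ ^ j)⁻¹ (pt L (i - k)) = pt L (i - k - j) :=
        Perm.inv_eq_iff_eq.2 (by rw [c0_pow_pt, Nat.sub_add_cancel (by omega)])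
      rw [hσ2, Perm.mul_apply, Perm.mul_apply, e1, hApts k _ (by omega), c0_pow_pt,
        Nat.mod_eq_of_lt (by omega), show i - k - j + k + j = i by omega]
    rw [hσ1, Perm.mul_apply, Perm.inv_eq_iff_eq.2 h1.symm, c0_pow_pt, Nat.sub_add_cancel (by omega)]
  have hsig : Perm.sign σ1 = 1 := by
    rw [hσ1, hσ2]
    simp only [map_mul, map_inv, map_pow, sign_c0, sign_of_mem (good_seg p) A0.2, one_pow, hδk,
      mul_one, inv_one, mul_inv_cancel]
  have hσ1m : σ1 ∈ Cs (pa L) (pb L) (seg L p) := mem_Cs_of_even hsig hinl hfix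
  -- words
  choose W hW using fun g : Cs (pa L) (pb L) (seg L p) =>
    exists_word (cz L p) (t := g) (cz_gen (L := L) (p := p) ▸ Subgroup.mem_top g)
  let oA : FreeGroup (Fin 3) := FreeGroup.of 0
  let oX : FreeGroup (Fin 3) := FreeGroup.of 1
  let oC : FreeGroup (Fin 3) := FreeGroup.of 2
  let Wx : ZMod p → FreeGroup (Fin 3) := fun i => oA ^ i.val * oX * (oA ^ i.val)⁻¹
  let oB : FreeGroup (Fin 3) := FreeGroup.lift Wx uB
  let WT : Cs (pa L) (pb L) (seg L p) → FreeGroup (Fin 3) := fun g => FreeGroup.lift Wx (W g)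
  let Lst : List (FreeGroup (Fin 3)) := [oA ^ p * (oX ^ 3)⁻¹, oB * oA * oB⁻¹ * (oA ^ r')⁻¹,
    oB * oX * oB⁻¹ * oX, (oX * (oA * oX * oA⁻¹)) ^ 2,
    oC * WT (ψ1 o1) * oC⁻¹ * (WT (ψ2 o1))⁻¹, oC * WT (ψ1 o2) * oC⁻¹ * (WT (ψ2 o2))⁻¹,
    oC ^ k * (WT ⟨σ1, hσ1m⟩ * (oC ^ j * oA ^ k * (oC ^ j)⁻¹))⁻¹]
  refine ⟨⟨A0, Lst.toFinset, (List.toFinset_card_le Lst).trans le_rfl, ?_, ?_⟩⟩
  · -- the relations hold
    set v : Fin 3 → Perm (Pts L) := ![(A0 : Perm (Pts L)), cyc (pa L) (pb L) (pt L 0), c0 L δ] with hv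
    have hvA : FreeGroup.lift v oA = A0 := FreeGroup.lift_apply_of
    have hvX : FreeGroup.lift v oX = cyc (pa L) (pb L) (pt L 0) := FreeGroup.lift_apply_of
    have hvC : FreeGroup.lift v oC = c0 L δ := FreeGroup.lift_apply_of
    have hX0 : ((cz L p 0 : Cs (pa L) (pb L) (seg L p)) : Perm (Pts L)) = cyc (pa L) (pb L) (pt L 0) := by
      show cyc _ _ (pt L (0 : ZMod p).val) = _
      rw [ZMod.val_zero]
    have hvW : (FreeGroup.lift v).comp (FreeGroup.lift Wx) =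
        (Cs (pa L) (pb L) (seg L p)).subtype.comp (FreeGroup.lift (cz L p)) :=
      FreeGroup.ext_hom _ _ fun i => by
        simp only [MonoidHom.comp_apply, FreeGroup.lift_apply_of, Wx, map_mul, map_inv, map_pow, hvA, hvX]
        rw [← hX0]
        show _ = ((cz L p i : Cs (pa L) (pb L) (seg L p)) : Perm (Pts L))
        rw [← SubmonoidClass.coe_pow, ← Subgroup.coe_inv, ← Subgroup.coe_mul, ← Subgroup.coe_mul, hτc,
          ZMod.natCast_zmod_val, add_zero]
    have hvWT : ∀ g, FreeGroup.lift v (WT g) = g := fun g => by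
      refine (DFunLike.congr_fun hvW (W g)).trans ?_
      rw [MonoidHom.comp_apply, hW]; rfl
    have hvB : FreeGroup.lift v oB = ((FreeGroup.lift (cz L p) uB : Cs (pa L) (pb L) (seg L p)) : Perm (Pts L)) :=
      DFunLike.congr_fun hvW uB
    have hA1 : A0 * cz L p 0 * A0⁻¹ = cz L p 1 := by simpa using hτc 1 0
    intro x hx
    simp only [Lst, List.mem_toFinset, List.mem_cons, List.not_mem_nil, or_false] at hx
    rcases hx with rfl | rfl | rfl | rfl | rfl | rfl | rfl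
    · rw [map_mul, map_inv, map_pow, map_pow, hvA, hvX, ← SubmonoidClass.coe_pow, hAp,
        cyc_cube pab (pt_ne_a 0) (pt_ne_b 0)]
      simp
    · rw [map_mul, map_mul, map_mul, map_inv, map_inv, map_pow, hvA, hvB, mul_inv_eq_one,
        ← Subgroup.coe_inv, ← Subgroup.coe_mul, ← Subgroup.coe_mul, hBA, SubmonoidClass.coe_pow]
    · rw [map_mul, map_mul, map_mul, map_inv, hvX, hvB, ← hX0, ← Subgroup.coe_inv, ← Subgroup.coe_mul,
        ← Subgroup.coe_mul, hBX, Subgroup.coe_inv, inv_mul_cancel]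
    · have h := (carRel_cyc (good_seg (L := L) p)).pair _ (pt_mem (ZMod.val_lt (0 : ZMod p)))
        _ (pt_mem (ZMod.val_lt (1 : ZMod p))) (fun h => by
          have := pt_inj (lt_of_lt_of_le (ZMod.val_lt _) hpL) (lt_of_lt_of_le (ZMod.val_lt _) hpL) h
          exact zero_ne_one (ZMod.val_injective p this))
      rw [map_pow, map_mul, map_mul, map_mul, map_inv, hvA, hvX, ← hX0, ← Subgroup.coe_inv,
        ← Subgroup.coe_mul, ← Subgroup.coe_mul, hA1]
      exact h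
    · rw [map_mul, map_mul, map_mul, map_inv, map_inv, hvC, hvWT, hvWT, mul_inv_eq_one]
      rfl
    · rw [map_mul, map_mul, map_mul, map_inv, map_inv, hvC, hvWT, hvWT, mul_inv_eq_one]
      rfl
    · rw [map_mul, map_inv, map_mul, map_mul, map_mul, map_inv, map_pow, map_pow, map_pow, hvC, hvWT, hvA,
        mul_inv_eq_one]
      show c0 L δ ^ k = σ1 * σ2
      rw [hσ1, inv_mul_cancel_right]
  -- the universal property
  intro G _ w hw
  set A := w 0 with hA
  set X := w 1 with hX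
  set C := w 2 with hC
  have hl : ∀ x ∈ Lst, FreeGroup.lift w x = 1 := fun x hx => hw x (List.mem_toFinset.2 hx)
  let Y : ZMod p → G := fun i => A ^ i.val * X * (A ^ i.val)⁻¹
  have hwW : (FreeGroup.lift w).comp (FreeGroup.lift Wx) = FreeGroup.lift Y :=
    FreeGroup.ext_hom _ _ fun i => by simp [Wx, Y, oA, oX, hA, hX]
  have hwB : FreeGroup.lift w oB = FreeGroup.lift Y uB := DFunLike.congr_fun hwW uB
  simp only [Lst, List.mem_cons, List.not_mem_nil, or_false, forall_eq_or_imp, forall_eq] at hl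
  obtain ⟨l1, l2, l3, l4, l5, l6, l7⟩ := hl
  simp only [map_mul, map_inv, map_pow, oA, oX, oC, FreeGroup.lift_apply_of, hwB, ← hA, ← hX, ← hC]
    at l1 l2 l3 l4 l5 l6 l7
  rw [mul_inv_eq_one] at l1 l2 l5 l6 l7
  obtain ⟨f, hfA, hf0, hfY⟩ := huniv G A X l1 l2 (eq_inv_of_mul_eq_one_left l3) l4
  have hWT : ∀ g, FreeGroup.lift w (WT g) = f g := fun g => by
    refine (DFunLike.congr_fun hwW (W g)).trans ?_
    rw [show f g = (f.comp (FreeGroup.lift (cz L p))) (W g) by rw [MonoidHom.comp_apply, hW]]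
    exact (DFunLike.congr_fun (FreeGroup.ext_hom _ _ fun i => by simp [hfY, Y]) (W g))
  simp only [hWT] at l5 l6 l7
  have hag : (MulAut.conj C).toMonoidHom.comp (f.comp ψ1) = f.comp ψ2 := ho G _ _ l5 l6
  -- the elements
  let Wi : ℕ → G := fun i => pw (ε ^ i) (C ^ i * X * (C ^ i)⁻¹)
  have hconj : ∀ t i, C ^ t * Wi i * (C ^ t)⁻¹ = pw (ε ^ t) (Wi (i + t)) := by
    intro t i
    simp only [Wi]
    rw [pw_conj, pw_pw, pow_add ε i t, mul_comm (ε ^ i) (ε ^ t), ← mul_assoc (ε ^ t), Int.units_mul_self, one_mul,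
      add_comm i t, pow_add C t i]
    group
  have hY : ∀ i, i < p → f (cz L p (i : ZMod p)) = Wi i := by
    intro i
    induction i with
    | zero =>
      intro _
      simp only [Wi, pow_zero, pw_one, one_mul, inv_one, mul_one, Nat.cast_zero]
      exact hf0
    | succ i ih =>
      intro hi
      have hi' : i < p - 1 := by omega
      have h := DFunLike.congr_fun hag ⟨cyc (pa L) (pb L) (pt L i), cyc_mem (pt_mem hi')⟩
      simp only [MonoidHom.comp_apply, MulEquiv.coe_toMonoidHom, MulAut.conj_apply] at h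
      have e1 : ψ1 ⟨cyc (pa L) (pb L) (pt L i), cyc_mem (pt_mem hi')⟩ = cz L p (i : ZMod p) :=
        Subtype.ext (cz_natCast (by omega)).symm
      have e2 : ψ2 ⟨cyc (pa L) (pb L) (pt L i), cyc_mem (pt_mem hi')⟩ =
          pw ε (cz L p ((i + 1 : ℕ) : ZMod p)) := by
        refine Subtype.ext ?_
        show c0 L δ * cyc (pa L) (pb L) (pt L i) * (c0 L δ)⁻¹ =
          (Cs (pa L) (pb L) (seg L p)).subtype (pw ε (cz L p ((i + 1 : ℕ) : ZMod p)))
        rw [c0_cyc, pw_map, Subgroup.coe_subtype, cz_natCast hi]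
      rw [e1, e2, pw_map, ih (by omega)] at h
      have h2 := hconj 1 i
      rw [pow_one, pow_one, h] at h2
      exact pw_inj ε h2
  -- periodicity
  have hWcyc : ∀ (i : ℕ) (hi : i < p),
      f ⟨cyc (pa L) (pb L) (pt L i), cyc_mem (pt_mem hi)⟩ = Wi i := fun i hi => by
    rw [← hY i hi]; exact congrArg f (Subtype.ext (cz_natCast hi).symm)
  have hper0 : Wi L = Wi 0 := by
    have h1 := hconj k (L - k)
    rw [Nat.sub_add_cancel (by omega)] at h1
    have h2 : Wi (L - k) = pw (ε ^ j) (C ^ j * Wi (p - k) * (C ^ j)⁻¹) := by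
      rw [hconj j (p - k), pw_pw, Int.units_mul_self, pw_one, show p - k + j = L - k by omega]
    have h3 : A ^ k * Wi (p - k) * (A ^ k)⁻¹ = Wi 0 := by
      rw [← hY (p - k) (by omega), ← hfA, ← map_pow, ← map_inv, ← map_mul, ← map_mul, hτc,
        ← Nat.cast_add, Nat.add_sub_cancel' hk, ZMod.natCast_self, ← hY 0 hpp, Nat.cast_zero]
    have hjp : j < p := by omega
    have hperm : σ1 * cyc (pa L) (pb L) (pt L j) * σ1⁻¹ = pw (ε ^ k) (cyc (pa L) (pb L) (pt L 0)) := by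
      have e1 := c0_pow_cyc (L := L) (δ := δ) j 0
      rw [Nat.zero_add] at e1
      have e2 : (A0 : Perm (Pts L)) ^ k * cyc (pa L) (pb L) (pt L (p - k)) * ((A0 : Perm (Pts L)) ^ k)⁻¹ =
          cyc (pa L) (pb L) (pt L 0) := by
        have := congrArg Subtype.val (hτc k ((p - k : ℕ) : ZMod p))
        rw [Subgroup.coe_mul, Subgroup.coe_mul, Subgroup.coe_inv, SubmonoidClass.coe_pow,
          ← Nat.cast_add, Nat.add_sub_cancel' hk, ZMod.natCast_self] at this
        rwa [cz_natCast (by omega), ← Nat.cast_zero, cz_natCast hpp] at this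
      have e3 : σ2⁻¹ * cyc (pa L) (pb L) (pt L j) * σ2 = cyc (pa L) (pb L) (pt L (L - k)) := by
        have e4 := c0_pow_cyc (L := L) (δ := δ) j (p - k)
        rw [show p - k + j = L - k by omega] at e4
        have e5 : (c0 L δ ^ j)⁻¹ * cyc (pa L) (pb L) (pt L j) * (c0 L δ ^ j) =
            pw (ε ^ j) (cyc (pa L) (pb L) (pt L 0)) := by
          have := congrArg (pw (ε ^ j)) e1
          rw [pw_pw, Int.units_mul_self, pw_one] at this
          rw [← this, ← pw_conj (ε ^ j)]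
          group
        rw [hσ2, show (c0 L δ ^ j * (A0 : Perm (Pts L)) ^ k * (c0 L δ ^ j)⁻¹)⁻¹ *
            cyc (pa L) (pb L) (pt L j) * (c0 L δ ^ j * (A0 : Perm (Pts L)) ^ k * (c0 L δ ^ j)⁻¹) =
          c0 L δ ^ j * (((A0 : Perm (Pts L)) ^ k)⁻¹ * ((c0 L δ ^ j)⁻¹ *
            cyc (pa L) (pb L) (pt L j) * (c0 L δ ^ j)) * (A0 : Perm (Pts L)) ^ k) * (c0 L δ ^ j)⁻¹ by group,
          e5]
        have e6 : ((A0 : Perm (Pts L)) ^ k)⁻¹ * pw (ε ^ j) (cyc (pa L) (pb L) (pt L 0)) *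
            (A0 : Perm (Pts L)) ^ k = pw (ε ^ j) (cyc (pa L) (pb L) (pt L (p - k))) := by
          rw [← e2, ← pw_conj]
          group
        rw [e6, pw_conj, e4, pw_pw, Int.units_mul_self, pw_one]
      rw [hσ1, show c0 L δ ^ k * σ2⁻¹ * cyc (pa L) (pb L) (pt L j) * (c0 L δ ^ k * σ2⁻¹)⁻¹ =
        c0 L δ ^ k * (σ2⁻¹ * cyc (pa L) (pb L) (pt L j) * σ2) * (c0 L δ ^ k)⁻¹ by group, e3, c0_pow_cyc,
        Nat.sub_add_cancel (by omega : k ≤ L), ← pt_mod L, Nat.mod_self]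
    have hS1 : f ⟨σ1, hσ1m⟩ * Wi j * (f ⟨σ1, hσ1m⟩)⁻¹ = pw (ε ^ k) (Wi 0) := by
      rw [← hWcyc j hjp, ← hWcyc 0 hpp, ← pw_map, ← map_inv, ← map_mul, ← map_mul]
      refine congrArg f (Subtype.ext ?_)
      rw [show ((pw (ε ^ k) ⟨cyc (pa L) (pb L) (pt L 0), cyc_mem (pt_mem hpp)⟩ :
        Cs (pa L) (pb L) (seg L p)) : Perm (Pts L)) = pw (ε ^ k) (cyc (pa L) (pb L) (pt L 0)) from
          pw_map (Cs (pa L) (pb L) (seg L p)).subtype _ _]
      exact hperm
    have h4 : C ^ k * Wi (L - k) * (C ^ k)⁻¹ = pw (ε ^ k) (Wi 0) := by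
      have hj0 := hconj j 0
      rw [Nat.zero_add] at hj0
      rw [l7, show f ⟨σ1, hσ1m⟩ * (C ^ j * A ^ k * (C ^ j)⁻¹) * Wi (L - k) *
          (f ⟨σ1, hσ1m⟩ * (C ^ j * A ^ k * (C ^ j)⁻¹))⁻¹ =
        f ⟨σ1, hσ1m⟩ * (C ^ j * (A ^ k * ((C ^ j)⁻¹ * Wi (L - k) * C ^ j) * (A ^ k)⁻¹) * (C ^ j)⁻¹) *
          (f ⟨σ1, hσ1m⟩)⁻¹ by group, h2]
      rw [show (C ^ j)⁻¹ * pw (ε ^ j) (C ^ j * Wi (p - k) * (C ^ j)⁻¹) * C ^ j = pw (ε ^ j) (Wi (p - k)) by
        rw [← pw_conj]; group, pw_conj, h3, pw_conj, hj0, pw_pw, Int.units_mul_self, pw_one, hS1]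
    exact pw_inj _ (h1.symm.trans h4)
  have hper : ∀ i, Wi (i + L) = Wi i := by
    intro i
    have e1 := hconj i L
    have e2 := hconj i 0
    rw [hper0, e2, Nat.zero_add, Nat.add_comm L i] at e1
    exact (pw_inj _ e1).symm
  have hmod : ∀ i, Wi i = Wi (i % L) := by
    intro i
    induction i using Nat.strong_induction_on with
    | _ i ih =>
      by_cases h : i < L
      · rw [Nat.mod_eq_of_lt h]
      · rw [show i = i - L + L by omega, hper, ih (i - L) (by have := NeZero.pos L; omega), Nat.add_mod_right]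
  -- all the relations of Carmichael
  have hcube : ∀ i, Wi i ^ 3 = 1 := by
    intro i
    have h0 : X ^ 3 = 1 := by
      rw [← hf0, ← map_pow, show cz L p 0 ^ 3 = 1 from Subtype.ext (by
        rw [SubmonoidClass.coe_pow]; exact (carRel_cyc (good_seg (L := L) p)).cube _ (pt_mem (ZMod.val_lt _))),
        map_one]
    simp only [Wi]
    rw [pw_pow, conj_pow, h0, mul_one, mul_inv_cancel]
    rcases sgn_cases (ε ^ i) (1 : G) with h | h <;> simp [h]
  have hnear : ∀ i d, 0 < d → d < p → (Wi i * Wi (i + d)) ^ 2 = 1 := by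
    intro i d hd0 hd
    have h0 : (Wi 0 * Wi d) ^ 2 = 1 := by
      rw [← hY 0 hpp, ← hY d hd, ← map_mul, ← map_pow]
      refine (congrArg f (Subtype.ext ?_)).trans (map_one f)
      rw [SubmonoidClass.coe_pow, Subgroup.coe_mul, cz_natCast hpp, cz_natCast hd]
      refine (carRel_cyc (good_seg (L := L) p)).pair _ (pt_mem hpp) _ (pt_mem hd) fun h => ?_
      have := pt_inj (by omega) (by omega) h
      omega
    have e1 := hconj i 0
    have e2 := hconj i d
    rw [Nat.zero_add] at e1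
    rw [Nat.add_comm d i] at e2
    refine pw_pair (ε ^ i) ?_
    rw [← e1, ← e2, show C ^ i * Wi 0 * (C ^ i)⁻¹ * (C ^ i * Wi d * (C ^ i)⁻¹) =
      C ^ i * (Wi 0 * Wi d) * (C ^ i)⁻¹ by group, conj_pow, h0, mul_one, mul_inv_cancel]
  have hpairW : ∀ i j', i < j' → j' < L → (Wi i * Wi j') ^ 2 = 1 := by
    intro i j' hij hjL'
    by_cases hd : j' - i < p
    · have := hnear i (j' - i) (by omega) hd
      rwa [Nat.add_sub_cancel' hij.le] at this
    · have h := hnear j' (i + L - j') (by omega) (by omega)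
      rw [Nat.add_sub_cancel' (by omega : j' ≤ i + L), hper] at h
      exact pair_symm h
  let Xf : Pts L → G := Sum.elim (fun _ => 1) fun z => Wi z.val
  have hXf : ∀ i, Xf (pt L i) = Wi i := fun i => by
    show Wi (i : ZMod L).val = _
    rw [ZMod.val_natCast, ← hmod]
  obtain ⟨ψ, hψ⟩ := car_hom (good_seg (L := L) L) Xf ⟨fun x hx => by
      obtain ⟨i, -, rfl⟩ := mem_seg.1 hx
      rw [hXf]; exact hcube i,
    fun x hx y hy hxy => by
      obtain ⟨i, hi, rfl⟩ := mem_seg.1 hx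
      obtain ⟨i', hi', rfl⟩ := mem_seg.1 hy
      rw [hXf, hXf]
      rcases Nat.lt_trichotomy i i' with h | h | h
      · exact hpairW i i' h hi'
      · exact absurd (congrArg (pt L) h) hxy
      · exact pair_symm (hpairW i' i h hi)⟩
  let up : Cs (pa L) (pb L) (seg L p) →* Cs (pa L) (pb L) (seg L L) :=
    Subgroup.inclusion (Cs_mono (seg_mono hpL))
  have hup : ψ.comp up = f := hom_ext fun x hx => by
    obtain ⟨i, hi, rfl⟩ := mem_seg.1 hx
    rw [MonoidHom.comp_apply, show up ⟨cyc (pa L) (pb L) (pt L i), cyc_mem hx⟩ =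
      ⟨cyc (pa L) (pb L) (pt L i), cyc_mem (seg_mono hpL hx)⟩ from rfl, hψ _ (seg_mono hpL hx), hXf]
    exact (hWcyc i hi).symm
  let cj : ℕ → Cs (pa L) (pb L) (seg L L) →* Cs (pa L) (pb L) (seg L L) := fun t =>
    ((MulAut.conj (c0 L δ ^ t)).toMonoidHom.comp (Cs (pa L) (pb L) (seg L L)).subtype).codRestrict _
      fun x => c0_pow_mem_all t x.2
  have hcj : ∀ t, (MulAut.conj (C ^ t)).toMonoidHom.comp ψ = ψ.comp (cj t) := fun t => hom_ext fun x hx => by
    obtain ⟨i, -, rfl⟩ := mem_seg.1 hx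
    have hm : pt L (i + t) ∈ seg L L := seg_full _ (pt_ne_a _) (pt_ne_b _)
    have e : cj t ⟨cyc (pa L) (pb L) (pt L i), cyc_mem hx⟩ =
        pw (ε ^ t) ⟨cyc (pa L) (pb L) (pt L (i + t)), cyc_mem hm⟩ := Subtype.ext (by
      refine (c0_pow_cyc (L := L) (δ := δ) t i).trans ?_
      exact (pw_map (Cs (pa L) (pb L) (seg L L)).subtype (ε ^ t) ⟨cyc (pa L) (pb L) (pt L (i + t)), cyc_mem hm⟩).symm)
    rw [MonoidHom.comp_apply, MonoidHom.comp_apply, e, pw_map, hψ _ hm, hψ _ hx, hXf, hXf]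
    exact hconj t i
  have hcompat : ∀ (t : ℕ) (x y : Cs (pa L) (pb L) (seg L L)),
      (y : Perm (Pts L)) = c0 L δ ^ t * x * (c0 L δ ^ t)⁻¹ → C ^ t * ψ x * (C ^ t)⁻¹ = ψ y := by
    intro t x y hy
    rw [show y = cj t x from Subtype.ext hy]
    exact DFunLike.congr_fun (hcj t) x
  refine ⟨ψ, ?_, ?_, hcompat, ?_⟩
  · intro x hx
    rw [show x = up A0 from Subtype.ext hx, ← MonoidHom.comp_apply, hup]
    exact hfA
  · intro x hx
    rw [show x = up (cz L p 0) from Subtype.ext (hx.trans (by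
      show _ = cyc (pa L) (pb L) (pt L (0 : ZMod p).val)
      rw [ZMod.val_zero])), ← MonoidHom.comp_apply, hup]
    exact hf0
  · intro x hx
    have e : x = up ⟨σ1, hσ1m⟩ * cj j (up (A0 ^ k)) := Subtype.ext (by
      rw [hx, Subgroup.coe_mul]
      show c0 L δ ^ k = σ1 * (c0 L δ ^ j * ((A0 ^ k : Cs (pa L) (pb L) (seg L p)) : Perm (Pts L)) * (c0 L δ ^ j)⁻¹)
      rw [SubmonoidClass.coe_pow, ← hσ2, hσ1, inv_mul_cancel_right])
    rw [e, map_mul, ← hcompat j (up (A0 ^ k)) (cj j (up (A0 ^ k))) rfl, ← MonoidHom.comp_apply ψ up,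
      ← MonoidHom.comp_apply ψ up, hup, map_pow, hfA, l7]

end Cfsg.Agent.ShortPres
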