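import Cfsg.Agent.Lib.BoundedPres.Short.Glue

/-!
Two special points and a cycle of `L` points, with an interval of `p` of them.
-/

set_option autoImplicit false
set_option linter.unusedSectionVars false
set_option linter.style.haveILetI false

namespace Cfsg.Agent.ShortPres

open Equiv Cfsg.Agent.BoundedPres

/-- The points. -/
abbrev Pts (L : ℕ) : Type := Fin 2 ⊕ ZMod L

variable {L p : ℕ}

/-- The first special point. -/
abbrev pa (L : ℕ) : Pts L := Sum.inl 0

/-- The second special point. -/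
abbrev pb (L : ℕ) : Pts L := Sum.inl 1

/-- The points of the cycle. -/
def pt (L : ℕ) (i : ℕ) : Pts L := Sum.inr (i : ZMod L)

/-- The first `m` points of the cycle. -/
def seg (L : ℕ) [NeZero L] (m : ℕ) : Finset (Pts L) := (Finset.range m).image (pt L)

theorem pt_ne_a (i : ℕ) : pt L i ≠ pa L := by simp [pt]

theorem pt_ne_b (i : ℕ) : pt L i ≠ pb L := by simp [pt]

theorem pab : pa L ≠ pb L := by simp

variable [NeZero L]

theorem pt_inj {i j : ℕ} (hi : i < L) (hj : j < L) (h : pt L i = pt L j) : i = j := by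
  have h1 := congrArg ZMod.val (Sum.inr.inj h)
  rwa [ZMod.val_natCast, ZMod.val_natCast, Nat.mod_eq_of_lt hi, Nat.mod_eq_of_lt hj] at h1

theorem pt_mod (i : ℕ) : pt L (i % L) = pt L i := by simp [pt]

theorem pt_add_self (i : ℕ) : pt L (i + L) = pt L i := by simp [pt]

theorem good_seg (m : ℕ) : Good (pa L) (pb L) (seg L m) :=
  ⟨pab, by simp [seg, pt], by simp [seg, pt]⟩

theorem pt_mem {i m : ℕ} (hi : i < m) : pt L i ∈ seg L m :=
  Finset.mem_image_of_mem _ (Finset.mem_range.2 hi)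

theorem mem_seg {x : Pts L} {m : ℕ} : x ∈ seg L m ↔ ∃ i < m, pt L i = x := by
  simp [seg]

theorem pts_cases (x : Pts L) : x = pa L ∨ x = pb L ∨ ∃ i < L, pt L i = x := by
  rcases x with x | x
  · fin_cases x
    · exact Or.inl rfl
    · exact Or.inr (Or.inl rfl)
  · exact Or.inr (Or.inr ⟨x.val, ZMod.val_lt x, by simp [pt]⟩)

theorem seg_full : ∀ x, x ≠ pa L → x ≠ pb L → x ∈ seg L L := by
  intro x h1 h2
  obtain ⟨i, hi, rfl⟩ := ((pts_cases x).resolve_left h1).resolve_left h2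
  exact pt_mem hi

theorem seg_card {m : ℕ} (hm : m ≤ L) : (seg L m).card = m := by
  rw [seg, Finset.card_image_of_injOn, Finset.card_range]
  intro i hi j hj h
  rw [Finset.coe_range, Set.mem_Iio] at hi hj
  exact pt_inj (by omega) (by omega) h

theorem seg_mono {m m' : ℕ} (h : m ≤ m') : seg L m ⊆ seg L m' :=
  Finset.image_subset_image (Finset.range_mono h)

/-! ## the shift -/

/-- The shift of the cycle. -/
def shift (L : ℕ) : Perm (Pts L) := Equiv.sumCongr (Equiv.refl (Fin 2)) (Equiv.addLeft 1)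

/-- The exponent on the special points making the shift of sign `δ`. -/
def eps (L : ℕ) [NeZero L] (δ : ℤˣ) : ℤˣ := δ * Perm.sign (shift L)

/-- The shift of sign `δ`. -/
def c0 (L : ℕ) [NeZero L] (δ : ℤˣ) : Perm (Pts L) := shift L * flipPow (pa L) (pb L) (eps L δ)

variable {δ : ℤˣ}

theorem sign_c0 : Perm.sign (c0 L δ) = δ := by
  have hf : ∀ e : ℤˣ, Perm.sign (flipPow (pa L) (pb L) e) = e := by
    intro e
    rcases Int.units_eq_one_or e with rfl | rfl
    · rw [map_one, map_one]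
    · rw [show flipPow (pa L) (pb L) (-1 : ℤˣ) = (swap (pa L) (pb L) : Perm (Pts L)) from
        if_neg (t := (1 : Perm (Pts L))) (show ¬((-1 : ℤˣ) = 1) by decide), Perm.sign_swap pab]
  rw [c0, map_mul, hf, eps, mul_comm δ, ← mul_assoc, Int.units_mul_self, one_mul]

theorem c0_pt (i : ℕ) : c0 L δ (pt L i) = pt L (i + 1) := by
  rw [c0, Perm.mul_apply, flipPow_fix (pt_ne_a i) (pt_ne_b i)]
  simp [shift, pt, add_comm]

theorem c0_pow_pt (t i : ℕ) : (c0 L δ ^ t) (pt L i) = pt L (i + t) := by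
  induction t with
  | zero => simp
  | succ t ih => rw [pow_succ', Perm.mul_apply, ih, c0_pt, Nat.add_assoc]

theorem c0_inl (x : Fin 2) : ∃ y, c0 L δ (Sum.inl x) = Sum.inl y := by
  rcases Int.units_eq_one_or (eps L δ) with h | h
  · exact ⟨x, by rw [c0, h, map_one, mul_one]; rfl⟩
  · refine ⟨swap 0 1 x, ?_⟩
    rw [c0, h, show flipPow (pa L) (pb L) (-1 : ℤˣ) = (swap (pa L) (pb L) : Perm (Pts L)) from
      if_neg (t := (1 : Perm (Pts L))) (show ¬((-1 : ℤˣ) = 1) by decide), Perm.mul_apply]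
    fin_cases x <;> simp [shift]

theorem cyc_swap {i : ℕ} :
    swap (pa L) (pb L) * cyc (pa L) (pb L) (pt L i) * (swap (pa L) (pb L))⁻¹ =
      (cyc (pa L) (pb L) (pt L i))⁻¹ := by
  rw [cyc_inv, cyc, swap_inv, mul_assoc, mul_assoc, swap_mul_self, mul_one]

theorem c0_cyc (i : ℕ) : c0 L δ * cyc (pa L) (pb L) (pt L i) * (c0 L δ)⁻¹ =
    pw (eps L δ) (cyc (pa L) (pb L) (pt L (i + 1))) := by
  have hs : shift L * cyc (pa L) (pb L) (pt L i) * (shift L)⁻¹ =
      cyc (pa L) (pb L) (pt L (i + 1)) := by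
    rw [cyc_conj]
    simp [shift, pt, add_comm]
  have hf : flipPow (pa L) (pb L) (eps L δ) * cyc (pa L) (pb L) (pt L i) *
      (flipPow (pa L) (pb L) (eps L δ))⁻¹ = pw (eps L δ) (cyc (pa L) (pb L) (pt L i)) := by
    rcases Int.units_eq_one_or (eps L δ) with h | h
    · rw [h, map_one, pw_one, one_mul, inv_one, mul_one]
    · rw [h, pw_neg, show flipPow (pa L) (pb L) (-1 : ℤˣ) = (swap (pa L) (pb L) : Perm (Pts L)) from
        if_neg (t := (1 : Perm (Pts L))) (show ¬((-1 : ℤˣ) = 1) by decide), cyc_swap]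
  rw [c0, show shift L * flipPow (pa L) (pb L) (eps L δ) * cyc (pa L) (pb L) (pt L i) *
      (shift L * flipPow (pa L) (pb L) (eps L δ))⁻¹ =
    shift L * (flipPow (pa L) (pb L) (eps L δ) * cyc (pa L) (pb L) (pt L i) *
      (flipPow (pa L) (pb L) (eps L δ))⁻¹) * (shift L)⁻¹ by group, hf, pw_conj, hs]

theorem c0_pow_cyc (t i : ℕ) : c0 L δ ^ t * cyc (pa L) (pb L) (pt L i) * (c0 L δ ^ t)⁻¹ =
    pw (eps L δ ^ t) (cyc (pa L) (pb L) (pt L (i + t))) := by
  induction t with
  | zero => simp [pw_one]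
  | succ t ih =>
    rw [pow_succ' (c0 L δ), show c0 L δ * c0 L δ ^ t * cyc (pa L) (pb L) (pt L i) * (c0 L δ * c0 L δ ^ t)⁻¹ =
      c0 L δ * (c0 L δ ^ t * cyc (pa L) (pb L) (pt L i) * (c0 L δ ^ t)⁻¹) * (c0 L δ)⁻¹ by group, ih,
      pw_conj, c0_cyc, pw_pw, ← pow_succ, Nat.add_assoc]

theorem conj_le {g : Perm (Pts L)} {s t : Finset (Pts L)}
    (h : ∀ i ∈ s, g * cyc (pa L) (pb L) i * g⁻¹ ∈ Cs (pa L) (pb L) t) {x : Perm (Pts L)}
    (hx : x ∈ Cs (pa L) (pb L) s) : g * x * g⁻¹ ∈ Cs (pa L) (pb L) t := by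
  have : Cs (pa L) (pb L) s ≤ (Cs (pa L) (pb L) t).comap (MulAut.conj g).toMonoidHom := by
    conv_lhs => rw [Cs]
    rw [Subgroup.closure_le]
    rintro _ ⟨i, hi, rfl⟩
    exact h i (Finset.mem_coe.1 hi)
  exact this hx

theorem c0_pow_mem_all (t : ℕ) {x : Perm (Pts L)} (hx : x ∈ Cs (pa L) (pb L) (seg L L)) :
    c0 L δ ^ t * x * (c0 L δ ^ t)⁻¹ ∈ Cs (pa L) (pb L) (seg L L) := by
  refine conj_le (fun i hi => ?_) hx
  obtain ⟨k, -, rfl⟩ := mem_seg.1 hi
  rw [c0_pow_cyc, ← pt_mod (k + t)]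
  have := cyc_mem (a := pa L) (b := pb L) (pt_mem (L := L) (Nat.mod_lt (k + t) (NeZero.pos L)))
  rcases Int.units_eq_one_or (eps L δ ^ t) with h | h
  · rwa [h, pw_one]
  · rw [h, pw_neg]; exact inv_mem this

theorem c0_mem_seg {m : ℕ} {x : Perm (Pts L)} (hx : x ∈ Cs (pa L) (pb L) (seg L m)) :
    c0 L δ * x * (c0 L δ)⁻¹ ∈ Cs (pa L) (pb L) (seg L (m + 1)) := by
  refine conj_le (fun i hi => ?_) hx
  obtain ⟨k, hk, rfl⟩ := mem_seg.1 hi
  rw [c0_cyc]
  have := cyc_mem (a := pa L) (b := pb L) (pt_mem (L := L) (i := k + 1) (m := m + 1) (by omega))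
  rcases Int.units_eq_one_or (eps L δ) with h | h
  · rwa [h, pw_one]
  · rw [h, pw_neg]; exact inv_mem this

theorem sign_of_mem {s : Finset (Pts L)} (hs : Good (pa L) (pb L) s) {x : Perm (Pts L)}
    (hx : x ∈ Cs (pa L) (pb L) s) : Perm.sign x = 1 := by
  have : Cs (pa L) (pb L) s ≤ (Perm.sign : Perm (Pts L) →* ℤˣ).ker := by
    rw [Cs, Subgroup.closure_le]
    rintro _ ⟨i, hi, rfl⟩
    rw [SetLike.mem_coe, MonoidHom.mem_ker, cyc, map_mul,
      Perm.sign_swap (hs.ne_a (Finset.mem_coe.1 hi)).symm, Perm.sign_swap pab]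
    rfl
  exact this hx

/-- An even permutation of the special points and the segment. -/
theorem mem_Cs_of_even {m : ℕ} {g : Perm (Pts L)} (hsg : Perm.sign g = 1)
    (hab : ∀ x : Fin 2, ∃ y, g (Sum.inl x) = Sum.inl y)
    (hfix : ∀ i, i < L → pt L i ∉ seg L m → g (pt L i) = pt L i) :
    g ∈ Cs (pa L) (pb L) (seg L m) := by
  classical
  set S := seg L m with hS
  have hG := good_seg (L := L) m
  have habi : ∀ z : Fin 2, ∃ y, g (Sum.inl y) = Sum.inl z := by
    choose f hf using hab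
    intro z
    have hinj : Function.Injective f := fun x y h => by
      have : g (Sum.inl x) = g (Sum.inl y) := by rw [hf, hf, h]
      exact Sum.inl_injective (g.injective this)
    obtain ⟨y, hy⟩ := (Finite.injective_iff_surjective.1 hinj) z
    exact ⟨y, by rw [hf, hy]⟩
  have hinv : ∀ x, g x ∈ S ↔ x ∈ S := by
    intro x
    have key : ∀ x, x ∉ S → g x ∉ S := by
      intro x hx
      rcases pts_cases x with rfl | rfl | ⟨i, hi, rfl⟩
      · obtain ⟨y, hy⟩ := hab 0
        rw [pa, hy]; simp [hS, seg, pt]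
      · obtain ⟨y, hy⟩ := hab 1
        rw [pb, hy]; simp [hS, seg, pt]
      · rw [hfix i hi hx]; exact hx
    refine ⟨fun h => by_contra fun hx => key x hx h, fun hx => ?_⟩
    by_contra hgx
    rcases pts_cases (g x) with h | h | ⟨i, hi, h⟩
    · obtain ⟨y, hy⟩ := habi 0
      rw [g.injective (h.trans hy.symm)] at hx
      simp [hS, seg, pt] at hx
    · obtain ⟨y, hy⟩ := habi 1
      rw [g.injective (h.trans hy.symm)] at hx
      simp [hS, seg, pt] at hx
    · have h2 := hfix i hi (h ▸ hgx)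
      exact hgx (h ▸ (g.injective (h2.trans h)).symm ▸ hx)
  let π : Perm {x // x ∈ S} := g.subtypePerm hinv
  set d := (kap hG π)⁻¹ * g with hd
  have hdfix : ∀ i, i < L → d (pt L i) = pt L i := by
    intro i hi
    rw [hd, Perm.mul_apply, Perm.inv_eq_iff_eq]
    by_cases h : pt L i ∈ S
    · rw [kap_coe hG π ⟨_, h⟩]; rfl
    · rw [hfix i hi h, kap_fix hG π (pt_ne_a i) (pt_ne_b i) h]
  have hdsg : Perm.sign d = 1 := by
    rw [hd, map_mul, map_inv, hsg, sign_of_mem hG (kap_mem hG subset_rfl π), inv_one, one_mul]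
  suffices hd1 : d = 1 by
    rw [show g = kap hG π * d by rw [hd]; group, hd1, mul_one]
    exact kap_mem hG subset_rfl π
  by_cases ha : d (pa L) = pa L
  · refine Equiv.ext fun x => ?_
    rcases pts_cases x with rfl | rfl | ⟨i, hi, rfl⟩
    · exact ha
    · rcases pts_cases (d (pb L)) with h | h | ⟨i, hi, h⟩
      · exact absurd (d.injective (h.trans ha.symm)) pab.symm
      · exact h
      · exact absurd (d.injective (h.symm.trans (hdfix i hi).symm)).symm (pt_ne_b i)
    · exact hdfix i hi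
  · exfalso
    have hdb : d = swap (pa L) (pb L) := by
      have e1 : d (pa L) = pb L := by
        rcases pts_cases (d (pa L)) with h | h | ⟨i, hi, h⟩
        · exact absurd h ha
        · exact h
        · exact absurd (d.injective (h.symm.trans (hdfix i hi).symm)).symm (pt_ne_a i)
      have e2 : d (pb L) = pa L := by
        rcases pts_cases (d (pb L)) with h | h | ⟨i, hi, h⟩
        · exact h
        · exact absurd (d.injective (h.trans e1.symm)) pab.symm
        · exact absurd (d.injective (h.symm.trans (hdfix i hi).symm)).symm (pt_ne_b i)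
      refine Equiv.ext fun x => ?_
      rcases pts_cases x with rfl | rfl | ⟨i, hi, rfl⟩
      · rw [e1, swap_apply_left]
      · rw [e2, swap_apply_right]
      · rw [hdfix i hi, swap_apply_of_ne_of_ne (pt_ne_a i) (pt_ne_b i)]
    rw [hdb, Perm.sign_swap pab] at hdsg
    exact absurd hdsg (by decide)

end Cfsg.Agent.ShortPres
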