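import Cfsg.Agent.Lib.ShortPres.Pres
import Cfsg.Agent.Lib.BoundedPres.Short.Sym
import Cfsg.Agent.Lib.SymPres.Coxeter

/-!
Alternating and symmetric groups of degree at most four on two generators.
-/

set_option autoImplicit false
set_option linter.unusedSectionVars false
set_option linter.style.haveILetI false

namespace Cfsg.Agent.ShortPres

open Equiv Cfsg.Agent.BoundedPres

theorem presB_S4 : PresB (Perm (Fin 4)) 6 := by
  classical
  let x : ℕ → FreeGroup (Fin 3) := fun i => if h : i < 3 then FreeGroup.of ⟨i, h⟩ else 1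
  let br : ℕ → FreeGroup (Fin 3) := fun i => x i * x (i + 1) * x i * (x (i + 1) * x i * x (i + 1))⁻¹
  let Lst : List (FreeGroup (Fin 3)) := [x 0 * x 0, x 1 * x 1, x 2 * x 2, br 0, br 1,
    x 0 * x 2 * (x 2 * x 0)⁻¹]
  let v : Fin 3 → Perm (Fin 4) := fun i => SymCoxeter.adj 3 i
  have hx : ∀ (G : Type) [Group G] (w : Fin 3 → G) (i : ℕ) (h : i < 3),
      FreeGroup.lift w (x i) = w ⟨i, h⟩ := fun G _ w i h => by
    simp only [x, dif_pos h, FreeGroup.lift_apply_of]
  have hA := SymCoxeter.adj_rels 3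
  refine of_data Lst.toFinset ((List.toFinset_card_le Lst).trans le_rfl) v ?_ ?_ ?_
  · intro y hy
    simp only [Lst, br, List.mem_toFinset, List.mem_cons, List.not_mem_nil, or_false] at hy
    rcases hy with rfl | rfl | rfl | rfl | rfl | rfl <;>
      simp only [map_mul, map_inv, hx _ v _ (show 0 < 3 by norm_num), hx _ v _ (show 1 < 3 by norm_num),
        hx _ v _ (show 2 < 3 by norm_num), v, mul_inv_eq_one]
    · exact hA.sq 0 (by norm_num)
    · exact hA.sq 1 (by norm_num)
    · exact hA.sq 2 (by norm_num)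
    · exact hA.braid 0 (by norm_num)
    · exact hA.braid 1 (by norm_num)
    · exact hA.comm 0 2 (by norm_num) (by norm_num)
  · have : Set.range v = SymCoxeter.adj 3 '' {i | i < 3} := by
      ext y
      constructor
      · rintro ⟨i, rfl⟩; exact ⟨i, i.isLt, rfl⟩
      · rintro ⟨i, hi, rfl⟩; exact ⟨⟨i, hi⟩, rfl⟩
    rw [this]
    exact SymCoxeter.closure_adj 3
  · intro G _ w hw _
    let s : ℕ → G := fun i => FreeGroup.lift w (x i)
    have hl : ∀ y ∈ Lst, FreeGroup.lift w y = 1 := fun y hy => hw y (List.mem_toFinset.2 hy)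
    simp only [Lst, br, List.mem_cons, List.not_mem_nil, or_false, forall_eq_or_imp, forall_eq,
      map_mul, map_inv, mul_inv_eq_one] at hl
    obtain ⟨a0, a1, a2, b0, b1, c⟩ := hl
    have hs : SymCoxeter.Rels s 3 := by
      refine ⟨fun i hi => ?_, fun i hi => ?_, fun i j hij hj => ?_⟩
      · interval_cases i
        · exact a0
        · exact a1
        · exact a2
      · obtain rfl | rfl : i = 0 ∨ i = 1 := by omega
        · exact b0
        · exact b1
      · obtain ⟨rfl, rfl⟩ : i = 0 ∧ j = 2 := by omega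
        exact c
    obtain ⟨φ, hφ, -⟩ := SymCoxeter.exists_hom 3 s hs
    exact ⟨φ, fun i => (hφ i i.isLt).trans (hx G w i i.isLt)⟩

theorem two_of_presG {T : Type} [Group T] {g r : ℕ} (h : PresG T g r) (hg : g ≤ 2)
    (hr : r + 2 ≤ 8 + g) :
    ∃ S : Finset (FreeGroup (Fin 2)), S.card ≤ 8 ∧
      Nonempty (PresentedGroup (↑S : Set (FreeGroup (Fin 2))) ≃* T) :=
  (h.pad hg hr).exact

theorem presG_alt_small (n : ℕ) (hn : n ≤ 4) :
    ∃ g r, g ≤ 2 ∧ r + 2 ≤ 8 + g ∧ PresG (alternatingGroup (Fin n)) g r := by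
  classical
  by_cases h1 : n ≤ 1
  · haveI : Subsingleton (Fin n) := Fin.subsingleton_iff_le_one.2 h1
    haveI : Subsingleton (alternatingGroup (Fin n)) := ⟨fun x y => Subtype.ext (Subsingleton.elim _ _)⟩
    refine ⟨Fintype.card Empty, 0, by simp, by simp, PresG.of_data (α := Empty) ∅ (by simp) Empty.elim
      (by simp) ?_ (fun G _ w _ _ => ⟨1, fun i => i.elim⟩)⟩
    rw [eq_top_iff]; intro x _; rw [Subsingleton.elim x 1]; exact one_mem _
  obtain ⟨a, b, hab⟩ := Fintype.exists_pair_of_one_lt_card (α := Fin n) (by simp; omega)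
  let s : Finset (Fin n) := Finset.univ \ {a, b}
  have hs : Good a b s := ⟨hab, by simp [s], by simp [s]⟩
  have hcard : s.card ≤ 2 := by
    rw [Finset.card_sdiff_of_subset (Finset.subset_univ _), Finset.card_univ, Fintype.card_fin,
      Finset.card_pair hab]
    omega
  exact ⟨s.card, _, hcard, by nlinarith, (presG_small hs).congr
    (MulEquiv.subgroupCongr (Cs_eq_alternating hs fun x hxa hxb => by simp [s, hxa, hxb]))⟩

theorem sym_small (n : ℕ) (hn : n ≤ 4) :
    ∃ S : Finset (FreeGroup (Fin 2)), S.card ≤ 8 ∧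
      Nonempty (PresentedGroup (↑S : Set (FreeGroup (Fin 2))) ≃* Perm (Fin n)) := by
  classical
  by_cases h1 : n ≤ 1
  · haveI : Subsingleton (Fin n) := Fin.subsingleton_iff_le_one.2 h1
    refine two_of_presG (g := Fintype.card Empty) (r := 0) (PresG.of_data (α := Empty) ∅ (by simp) Empty.elim
      (by simp) ?_ (fun G _ w _ _ => ⟨1, fun i => i.elim⟩)) (by simp) (by simp)
    rw [eq_top_iff]; intro x _; rw [Subsingleton.elim x 1]; exact one_mem _
  obtain rfl | h2 : n = 4 ∨ n ≤ 3 := by omega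
  · obtain ⟨u, v, huv⟩ := exists_perm_gen (Fin 4)
    exact (presB_S4).two u v huv
  obtain ⟨a, b, hab⟩ := Fintype.exists_pair_of_one_lt_card (α := Fin n) (by simp; omega)
  let s : Finset (Fin n) := Finset.univ \ {a, b}
  have hs : Good a b s := ⟨hab, by simp [s], by simp [s]⟩
  have hfull : ∀ x, x ≠ a → x ≠ b → x ∈ s := fun x hxa hxb => by simp [s, hxa, hxb]
  have hcard : s.card ≤ 1 := by
    rw [Finset.card_sdiff_of_subset (Finset.subset_univ _), Finset.card_univ, Fintype.card_fin,
      Finset.card_pair hab]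
    omega
  exact two_of_presG (presG_perm_of hs hfull (presG_small hs)) (by omega) (by nlinarith)

end Cfsg.Agent.ShortPres
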